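import Groth.Agent.CurveFF.Canonical
import Groth.Agent.CurveCohLib.PointTwist

/-! Elementary consequences of duality with the differentials. -/

noncomputable section

set_option linter.style.haveILetI false
set_option linter.unusedSectionVars false
set_option backward.isDefEq.respectTransparency false
set_option backward.isDefEq.respectTransparency.types false

universe u

open CategoryTheory CategoryTheory.Limits AlgebraicGeometry TopologicalSpace Opposite

namespace Groth.Agent.CurveFF

variable (k : Type u) [Field k] [IsAlgClosed k] {X : Scheme.{u}} [X.Over (Spec (CommRingCat.of k))]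
  [IsIntegral X] [IsProper (X ↘ Spec (CommRingCat.of k))] [Smooth (X ↘ Spec (CommRingCat.of k))]
  (hdim : topologicalKrullDim X = 1)

include hdim

theorem finrank_h0_of_deg_neg {L : X.Modules} (hL : PicF.IsInvertible L)
    (hd : Curv2.deg k X L 1 < 0) : Module.finrank k (Coh.HH X L 0) = 0 := by
  by_contra h0
  obtain ⟨s, hs⟩ := CurveRR.exists_hom_ne_zero k (P := L) h0
  have h1 := (CurveDeg.deg_le_and_isIso k hdim.le CurveDeg.isInvertible_structureModule hL s hs).1
  rw [CurveDeg.deg_structureModule] at h1
  omega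

/-- The degree of an inverse. -/
theorem deg_inverse {L D : X.Modules} (hL : PicF.IsInvertible L) (hD : PicF.IsInvertible D)
    (h : ClSub.IsInverseOf L D) : Curv2.deg k X D 1 = -Curv2.deg k X L 1 := by
  obtain ⟨e⟩ := h
  have h1 := CurveRR.deg_tensor k hdim hL hD
  have h2 : Curv2.deg k X ((DCoh.tensorBi.obj L).obj D) 1 = Curv2.deg k X (Coh.structureModule X) 1 :=
    CurveRR.deg_congr k e 1
  rw [h2, CurveDeg.deg_structureModule] at h1
  omega

/-- Speciality through duality. -/
theorem finrank_h1_pos {L D : X.Modules} (hL : PicF.IsInvertible L) (h : ClSub.IsInverseOf L D)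
    (hs : Nontrivial (Coh.HH X (CohB1.tensorMod (Ωm k X) D) 0))
    (hD : PicF.IsInvertible D) : Nontrivial (Coh.HH X L 1) := by
  obtain ⟨e⟩ := h
  haveI := CurveCohLib.isNoetherian_of_proper (k := k) (X := X)
  haveI := CurveCohLib.finite_HH (k := k) (CurveDeg.isCoh_of_isInvertible
    (InvX.isInvertible_tensorMod (isInvertible_Ωm k X hdim) hD)) 0
  have h1 := finrank_h1_eq k hdim hL e
  have : 0 < Module.finrank k (Coh.HH X (CohB1.tensorMod (Ωm k X) D) 0) := Module.finrank_pos
  exact Module.nontrivial_of_finrank_pos (R := k) (by omega)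

/-- A module of degree one has at most one section in positive genus. -/
theorem h0_le_one_of_deg_one (hg : 1 ≤ Curv2.genus k X) {J : X.Modules} (hJ : PicF.IsInvertible J)
    (hd : Curv2.deg k X J 1 = 1) : Module.finrank k (Coh.HH X J 0) ≤ 1 := by
  by_contra h
  rcases CurveCohLib.Clifford.dichotomy k hdim hJ (m := 1) (by omega) with h1 | h1 <;> omega

/-- The differentials are generated by sections in positive genus. -/
theorem isGloballyGenerated_Ωm (hg : 1 ≤ Curv2.genus k X) : Curv2.IsGloballyGenerated (Ωm k X) := by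
  have hΩ := isInvertible_Ωm k X hdim
  refine CurveCohLib.PointTwist.gg_of_lt k hΩ hdim fun p hp => ?_
  have hI := CurvePoint.isInvertible_ptMod p hp k hdim
  obtain ⟨J, hJ, hdJ, ⟨e⟩⟩ := CurveDuality.exists_inverse_deg k hdim hI
  have e' : (DCoh.tensorBi.obj J).obj (CurvePoint.ptMod p hp) ≅ Coh.structureModule X :=
    CurveTensor.commIso J (CurvePoint.ptMod p hp) ≪≫ e
  have hd : Curv2.deg k X J 1 = 1 := by rw [hdJ, CurvePoint.deg_ptMod p hp k]; norm_num
  have h1 := finrank_h1_eq k hdim hJ e'
  have h2 := CurveCohLib.Clifford.deg_eq k hdim hJ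
  have h3 := h0_le_one_of_deg_one k hdim hg hJ hd
  rw [(canonical_invariants k X hdim).1]
  change Module.finrank k (Coh.HH X (CohB1.tensorMod (Ωm k X) (CurvePoint.ptMod p hp)) 0) < _
  omega

/-- There are no vector fields in genus at least two. -/
theorem hom_Ωm_eq_zero (hg : 2 ≤ Curv2.genus k X) (θ : Ωm k X ⟶ Coh.structureModule X) : θ = 0 := by
  by_contra h
  have h1 := (CurveDeg.deg_le_and_isIso k hdim.le (isInvertible_Ωm k X hdim)
    CurveDeg.isInvertible_structureModule θ h).1
  rw [CurveDeg.deg_structureModule, (canonical_invariants k X hdim).2] at h1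
  omega

end Groth.Agent.CurveFF

namespace Groth.Agent.CurveFF

variable (k : Type u) [Field k] [IsAlgClosed k] {X : Scheme.{u}} [X.Over (Spec (CommRingCat.of k))]
  [IsIntegral X] [IsProper (X ↘ Spec (CommRingCat.of k))] [Smooth (X ↘ Spec (CommRingCat.of k))]

include k in
/-- A module inverse to an invertible module is invertible. -/
theorem isInvertible_of_inverse (hdim : topologicalKrullDim X = 1) {L M : X.Modules}
    (hL : PicF.IsInvertible L) (h : ClSub.IsInverseOf L M) : PicF.IsInvertible M := by
  obtain ⟨eM⟩ := h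
  obtain ⟨D, hD, -, ⟨e⟩⟩ := CurveDuality.exists_inverse_deg k hdim hL
  exact H23.PicMul.isInvertible_of_iso
    ((KFlatLib.tensorUnitIso D).symm ≪≫ ((DCoh.tensorBi.obj D).mapIso eM).symm ≪≫
      (CurveRR.cancelIso (CurveTensor.commIso D L ≪≫ e)).app M) hD

end Groth.Agent.CurveFF
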