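import Groth.Agent.CurveFF.Base
import Groth.Agent.CurveCohLib.Hopf
import Groth.Agent.InvX.GenLocusPull

/-! The divisor of an invertible module with a rational frame. -/

noncomputable section

set_option linter.style.haveILetI false
set_option linter.unusedSectionVars false
set_option backward.isDefEq.respectTransparency false
set_option backward.isDefEq.respectTransparency.types false

universe u

open CategoryTheory CategoryTheory.Limits AlgebraicGeometry TopologicalSpace Opposite
open Groth.Agent.CurveCohLib.Polar (InR gη eta_mem)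
open Groth.Agent.AModX (res resR)

namespace Groth.Agent.CurveFF

attribute [local instance] ffAlg

section Ratio

variable {X : Scheme.{u}} [IsIntegral X] {M : X.Modules}

/-- The germ at the generic point. -/
def gM {U : X.Opens} (hU : genericPoint X ∈ U) :
    Γ(M, U) →+ M.presheaf.stalk (genericPoint X) :=
  (M.presheaf.germ U (genericPoint X) hU).hom

theorem gM_res {U V : X.Opens} (h : V ≤ U) (hV : genericPoint X ∈ V) (s : Γ(M, U)) :
    gM hV (res M h s) = gM (h hV) s :=
  InvX.germ_res' h hV s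

theorem gM_smul {U : X.Opens} (hU : genericPoint X ∈ U) (r : Γ(X, U)) (s : Γ(M, U)) :
    gM hU (r • s) = X.presheaf.germ U (genericPoint X) hU r • gM hU s :=
  QCoh.germ_smul' (M := M) hU r s

/-- The quotient of two rational frames. -/
def ratio {U₀ U : X.Opens} {e₀ : Γ(M, U₀)} (he₀ : InvX.IsFrame e₀) (h₀ : genericPoint X ∈ U₀)
    (hU : genericPoint X ∈ U) (s : Γ(M, U)) : X.presheaf.stalk (genericPoint X) :=
  ((he₀.germ_bijective h₀).2 (gM hU s)).choose

theorem ratio_spec {U₀ U : X.Opens} {e₀ : Γ(M, U₀)} (he₀ : InvX.IsFrame e₀) (h₀ : genericPoint X ∈ U₀)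
    (hU : genericPoint X ∈ U) (s : Γ(M, U)) : ratio he₀ h₀ hU s • gM h₀ e₀ = gM hU s :=
  ((he₀.germ_bijective h₀).2 (gM hU s)).choose_spec

theorem ratio_eq {U₀ U : X.Opens} {e₀ : Γ(M, U₀)} (he₀ : InvX.IsFrame e₀) {h₀ : genericPoint X ∈ U₀}
    {hU : genericPoint X ∈ U} {s : Γ(M, U)} {c : X.presheaf.stalk (genericPoint X)}
    (h : c • gM h₀ e₀ = gM hU s) : ratio he₀ h₀ hU s = c :=
  (he₀.germ_bijective h₀).1 ((ratio_spec he₀ h₀ hU s).trans h.symm)

theorem ratio_ne_zero {U₀ U : X.Opens} {e₀ : Γ(M, U₀)} (he₀ : InvX.IsFrame e₀)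
    (h₀ : genericPoint X ∈ U₀) {e : Γ(M, U)} (he : InvX.IsFrame e) (hU : genericPoint X ∈ U) :
    ratio he₀ h₀ hU e ≠ 0 := by
  intro h
  have h1 := ratio_spec he₀ h₀ hU e
  rw [h, zero_smul] at h1
  have h2 := (he.germ_bijective hU).1 (a₁ := (1 : X.presheaf.stalk (genericPoint X))) (a₂ := 0) (by
    show (1 : X.presheaf.stalk (genericPoint X)) • gM hU e = (0 : X.presheaf.stalk (genericPoint X)) • gM hU e
    rw [← h1, smul_zero, smul_zero])
  exact one_ne_zero h2

theorem ratio_trans {U₀ U U' : X.Opens} {e₀ : Γ(M, U₀)} (he₀ : InvX.IsFrame e₀)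
    (h₀ : genericPoint X ∈ U₀) {e : Γ(M, U)} (he : InvX.IsFrame e) (hU : genericPoint X ∈ U)
    (hU' : genericPoint X ∈ U') (s : Γ(M, U')) :
    ratio he₀ h₀ hU' s = ratio he hU hU' s * ratio he₀ h₀ hU e :=
  ratio_eq he₀ (by rw [mul_smul, ratio_spec, ratio_spec])

/-- Coordinates in a frame are regular functions. -/
theorem exists_coord_ratio {U W : X.Opens} {e : Γ(M, U)} (he : InvX.IsFrame e) (h : W ≤ U)
    (hW : genericPoint X ∈ W) (s : Γ(M, W)) :
    ∃ r : Γ(X, W), s = r • res M h e ∧ ratio he (h hW) hW s = X.presheaf.germ W _ hW r := by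
  obtain ⟨r, hr⟩ := he.exists_coord h s
  exact ⟨r, hr, ratio_eq he (by rw [hr, gM_smul, gM_res h hW])⟩

theorem inR_ratio {U W : X.Opens} {e : Γ(M, U)} (he : InvX.IsFrame e) (hU : genericPoint X ∈ U)
    (hW : genericPoint X ∈ W) (s : Γ(M, W)) {z : X} (hzU : z ∈ U) (hzW : z ∈ W) :
    InR z (ratio he hU hW s) := by
  obtain ⟨r, -, hr⟩ := exists_coord_ratio he (inf_le_left : U ⊓ W ≤ U)
    (show genericPoint X ∈ U ⊓ W from ⟨hU, hW⟩) (res M (inf_le_right : U ⊓ W ≤ W) s)
  have h2 : ratio he hU hW s = X.presheaf.germ (U ⊓ W) _ ⟨hU, hW⟩ r := by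
    rw [← hr]
    refine ratio_eq he ?_
    rw [ratio_spec, gM_res]
  rw [h2]
  exact CurveCohLib.Polar.inR_gη (show z ∈ U ⊓ W from ⟨hzU, hzW⟩) r

theorem ext_gM (hM : PicF.IsInvertible M) {W : X.Opens} (hW : genericPoint X ∈ W) {s t : Γ(M, W)}
    (h : gM hW s = gM hW t) : s = t := by
  refine AModX.eq_of_locally _ _ fun y hy => ?_
  obtain ⟨U, hyU, e, he⟩ := InvX.exists_frame hM y
  have hη : genericPoint X ∈ U ⊓ W := eta_mem (show y ∈ U ⊓ W from ⟨hyU, hy⟩)
  obtain ⟨r, hr, hr'⟩ := exists_coord_ratio he (inf_le_left : U ⊓ W ≤ U) hη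
    (res M (inf_le_right : U ⊓ W ≤ W) s)
  obtain ⟨r', hr2, hr2'⟩ := exists_coord_ratio he (inf_le_left : U ⊓ W ≤ U) hη
    (res M (inf_le_right : U ⊓ W ≤ W) t)
  refine ⟨U ⊓ W, inf_le_right, ⟨hyU, hy⟩, ?_⟩
  rw [hr, hr2]
  have : r = r' := by
    refine germ_injective_of_isIntegral (X := X) (genericPoint X) hη (hr'.symm.trans (.trans ?_ hr2'))
    exact ratio_eq he (by rw [ratio_spec, gM_res, gM_res, h])
  rw [this]

end Ratio

variable (k : Type u) [Field k] [IsAlgClosed k] (X : Scheme.{u}) [X.Over (Spec (CommRingCat.of k))]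
  [IsIntegral X] [IsProper (X ↘ Spec (CommRingCat.of k))] [Smooth (X ↘ Spec (CommRingCat.of k))]
  (hdim : topologicalKrullDim X = 1)

include k hdim in
theorem finite_not_mem {U : X.Opens} (hU : genericPoint X ∈ U) :
    {z : Pt X | z.1 ∉ U}.Finite := by
  haveI := CurveCohLib.isNoetherian_of_proper (k := k) (X := X)
  obtain ⟨S, hS⟩ : ∃ S : Finset (TopologicalSpace.Closeds X),
      (∀ T ∈ S, IsIrreducible (T : Set X)) ∧ (U : Set X)ᶜ = ⋃ T ∈ S, (T : Set X) := by
    obtain ⟨S, hS1, hS2⟩ := TopologicalSpace.NoetherianSpace.exists_finite_set_closeds_irreducible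
      (⟨(U : Set X)ᶜ, U.2.isClosed_compl⟩ : TopologicalSpace.Closeds X)
    refine ⟨hS1.toFinset, fun T hT => hS2.1 T (hS1.mem_toFinset.1 hT), ?_⟩
    have := congrArg (fun C : TopologicalSpace.Closeds X => (C : Set X)) hS2.2
    simp only [TopologicalSpace.Closeds.coe_sSup, TopologicalSpace.Closeds.coe_mk] at this
    rw [this, Set.sUnion_image]
    refine (IsClosed.closure_eq ?_).trans (by simp only [Set.Finite.mem_toFinset])
    exact hS1.isClosed_biUnion fun T _ => T.isClosed
  have hsub : ∀ T ∈ S, {z : Pt X | z.1 ∈ (T : Set X)}.Subsingleton := by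
    intro T hT z hz z' hz'
    have key : ∀ w : Pt X, w.1 ∈ (T : Set X) → w.1 = (IsIrreducible.genericPoint (hS.1 T hT)) := by
      intro w hw
      rcases eq_or_isClosed k X hdim (IsIrreducible.genericPoint (hS.1 T hT)) with h | h
      · exfalso
        have : genericPoint X ∈ (U : Set X)ᶜ := by
          rw [hS.2, Set.mem_iUnion₂]
          refine ⟨T, hT, ?_⟩
          rw [← h]
          have := (IsIrreducible.isGenericPoint_genericPoint_closure (hS.1 T hT)).mem
          rwa [T.isClosed.closure_eq] at this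
        exact this hU
      · have hspec := (IsIrreducible.isGenericPoint_genericPoint_closure (hS.1 T hT)).specializes
          (show w.1 ∈ closure (T : Set X) from subset_closure hw)
        exact (hspec.mem_closed h (Set.mem_singleton _))
    exact Subtype.ext ((key z hz).trans (key z' hz').symm)
  refine ((S.finite_toSet.biUnion fun T hT => (hsub T hT).finite)).subset fun z hz => ?_
  have : z.1 ∈ (U : Set X)ᶜ := hz
  rw [hS.2, Set.mem_iUnion₂] at this
  obtain ⟨T, hT, hzT⟩ := this
  exact Set.mem_biUnion hT hzT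

variable {X} {M : X.Modules} (hM : PicF.IsInvertible M) {U₀ : X.Opens} {e₀ : Γ(M, U₀)}
  (he₀ : InvX.IsFrame e₀) (h₀ : genericPoint X ∈ U₀)

/-- The chosen frame at a closed point. -/
def chartU (z : Pt X) : X.Opens := (InvX.exists_frame hM z.1).choose

theorem mem_chartU (z : Pt X) : z.1 ∈ chartU hM z := (InvX.exists_frame hM z.1).choose_spec.choose

/-- The chosen frame at a closed point. -/
def chartE (z : Pt X) : Γ(M, chartU hM z) :=
  (InvX.exists_frame hM z.1).choose_spec.choose_spec.choose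

theorem isFrame_chartE (z : Pt X) : InvX.IsFrame (chartE hM z) :=
  (InvX.exists_frame hM z.1).choose_spec.choose_spec.choose_spec

/-- The divisor as a function on closed points. -/
def ordFun (z : Pt X) : ℤ :=
  -(pl k X hdim z).ord (ratio he₀ h₀ (eta_mem (mem_chartU hM z)) (chartE hM z))

theorem val_ratio_of_frames {U V : X.Opens} {e : Γ(M, U)} (he : InvX.IsFrame e) {e' : Γ(M, V)}
    (he' : InvX.IsFrame e') (hU : genericPoint X ∈ U) (hV : genericPoint X ∈ V)
    {z : Pt X} (hzU : z.1 ∈ U) (hzV : z.1 ∈ V) :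
    (pl k X hdim z).1 (ratio he hU hV e') = 1 := by
  refine le_antisymm ((inR_iff k X hdim z _).1 (inR_ratio he hU hV e' hzU hzV)) ?_
  have h2 := (inR_iff k X hdim z _).1 (inR_ratio he' hV hU e hzV hzU)
  have h3 : ratio he' hV hU e * ratio he hU hV e' = 1 := by
    rw [← ratio_trans he hU he' hV hU e]
    exact ratio_eq he (one_smul _ _)
  have h4 := congrArg (pl k X hdim z).1 h3
  erw [map_mul, map_one] at h4
  calc (1 : WithZero (Multiplicative ℤ)) = _ := h4.symm
    _ ≤ 1 * (pl k X hdim z).1 (ratio he hU hV e') := mul_le_mul_left h2 _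
    _ = _ := one_mul _

/-- The divisor read in any frame. -/
theorem exp_ordFun {U : X.Opens} {e : Γ(M, U)} (he : InvX.IsFrame e) (hU : genericPoint X ∈ U)
    {z : Pt X} (hz : z.1 ∈ U) :
    WithZero.exp (ordFun k hdim hM he₀ h₀ z) = (pl k X hdim z).1 (ratio he₀ h₀ hU e) := by
  have hne := ratio_ne_zero he₀ h₀ (isFrame_chartE hM z) (eta_mem (mem_chartU hM z))
  rw [ratio_trans he₀ h₀ (isFrame_chartE hM z) (eta_mem (mem_chartU hM z)) hU e, map_mul,
    val_ratio_of_frames k hdim (isFrame_chartE hM z) he _ hU (mem_chartU hM z) hz, one_mul,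
    FFLib.val_eq_exp _ hne]
  rfl

theorem ordFun_eq_zero {z : Pt X} (hz : z.1 ∈ U₀) : ordFun k hdim hM he₀ h₀ z = 0 := by
  have h := exp_ordFun k hdim hM he₀ h₀ he₀ h₀ hz
  rw [ratio_eq he₀ (one_smul _ _)] at h
  erw [map_one] at h
  rwa [← WithZero.exp_zero, WithZero.exp_inj] at h

theorem finite_support :
    (Function.support fun P => ordFun k hdim hM he₀ h₀ ((pl k X hdim).symm P)).Finite :=
  ((finite_not_mem k X hdim h₀).image (pl k X hdim)).subset fun P hP =>
    ⟨(pl k X hdim).symm P, fun h => hP (ordFun_eq_zero k hdim hM he₀ h₀ h),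
      Equiv.apply_symm_apply _ _⟩

/-- The divisor of an invertible module with a rational frame. -/
def divisor : FunFld.Divisor k X.functionField :=
  Finsupp.ofSupportFinite _ (finite_support k hdim hM he₀ h₀)

theorem exp_divisor {U : X.Opens} {e : Γ(M, U)} (he : InvX.IsFrame e) (hU : genericPoint X ∈ U)
    {z : Pt X} (hz : z.1 ∈ U) :
    WithZero.exp (divisor k hdim hM he₀ h₀ (pl k X hdim z)) =
      (pl k X hdim z).1 (ratio he₀ h₀ hU e) := by
  rw [← exp_ordFun k hdim hM he₀ h₀ he hU hz]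
  show WithZero.exp (ordFun k hdim hM he₀ h₀ ((pl k X hdim).symm (pl k X hdim z))) = _
  rw [Equiv.symm_apply_apply]

include he₀ h₀ in
/-- The space of global sections is the Riemann-Roch space. -/
theorem finrank_h0_eq_ell :
    Module.finrank k (Coh.HH X M 0) = FunFld.ell (divisor k hdim hM he₀ h₀) := by
  obtain ⟨Φ, hΦ, hΦ'⟩ := CurveCohLib.Hopf.exists_coordLin k he₀ hM h₀
  letI := (Curv2.stalkMap k X (genericPoint X)).toAlgebra
  have hrange : LinearMap.range Φ = FunFld.L (divisor k hdim hM he₀ h₀) := by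
    ext c
    constructor
    · rintro ⟨t, rfl⟩ P
      obtain ⟨z, rfl⟩ := (pl k X hdim).surjective P
      have hU := eta_mem (mem_chartU hM z)
      rw [exp_divisor k hdim hM he₀ h₀ (isFrame_chartE hM z) hU (mem_chartU hM z)]
      let s : Γ(M, ⊤) := Sheaf.H.equiv₀ (Coh.toAb M) isTerminalTop t
      have hs : ratio he₀ h₀ (show genericPoint X ∈ (⊤ : X.Opens) from trivial) s = Φ t :=
        ratio_eq he₀ (hΦ' t)
      rw [← hs, ratio_trans he₀ h₀ (isFrame_chartE hM z) hU, map_mul]
      exact mul_le_of_le_one_left' ((inR_iff k X hdim z _).1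
        (inR_ratio (isFrame_chartE hM z) hU _ s (mem_chartU hM z) trivial))
    · intro hc
      have hloc : ∀ y : X, ∃ (U : X.Opens) (hy : y ∈ U) (s : Γ(M, U)), gM (eta_mem hy) s = (show X.presheaf.stalk (genericPoint X) from c) • gM h₀ e₀ := by
        intro y
        obtain ⟨U, hy, e, he⟩ := InvX.exists_frame hM y
        have hU := eta_mem hy
        have hall : ∀ z ∈ U, InR z ((show X.presheaf.stalk (genericPoint X) from c) * ratio he hU h₀ e₀) := by
          intro z hz
          rcases eq_or_isClosed k X hdim z with rfl | hzc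
          · exact ⟨_, algebraMap_generic X _⟩
          refine (inR_iff k X hdim ⟨z, hzc⟩ _).2 ?_
          have hb := hc (pl k X hdim ⟨z, hzc⟩)
          rw [exp_divisor k hdim hM he₀ h₀ he hU (z := ⟨z, hzc⟩) hz] at hb
          rw [map_mul]
          refine (mul_le_mul_left hb _).trans_eq ?_
          rw [← map_mul, ← ratio_trans he hU he₀ h₀ hU e, ratio_eq he (one_smul _ _)]
          first | exact map_one _ | skip
        obtain ⟨r, hr⟩ := CurveCohLib.Polar.exists_of_forall_inR hall
        refine ⟨U, hy, r • res M le_rfl e, ?_⟩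
        rw [gM_smul, gM_res le_rfl hU]
        erw [hr hy]
        rw [mul_smul, ratio_spec]
      choose U hyU s hs using hloc
      obtain ⟨T, hT, -⟩ := AModX.existsUnique_glue (M := M) (V := ⊤) U (fun _ => le_top)
        (fun p _ => ⟨p, hyU p⟩) s fun a b => by
          rcases Set.eq_empty_or_nonempty ((U a ⊓ U b : X.Opens) : Set X) with he' | ⟨p, hp⟩
          · exact AModX.eq_of_locally _ _ fun p hp => absurd
              (show p ∈ ((U a ⊓ U b : X.Opens) : Set X) from hp) (by rw [he']; exact Set.notMem_empty p)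
          refine ext_gM hM (eta_mem hp) ?_
          rw [gM_res, gM_res]
          exact (hs a).trans (hs b).symm
      refine ⟨(Sheaf.H.equiv₀ (Coh.toAb M) isTerminalTop).symm T, (he₀.germ_bijective h₀).1 ?_⟩
      refine (hΦ' _).trans ?_
      rw [AddEquiv.apply_symm_apply]
      refine Eq.trans ?_ (hs (genericPoint X))
      rw [← hT (genericPoint X), gM_res]
      rfl
  show _ = Module.finrank k (FunFld.L (divisor k hdim hM he₀ h₀))
  rw [← LinearMap.finrank_range_of_inj hΦ, hrange]

theorem divisor_iso {N : X.Modules} (hN : PicF.IsInvertible N) (φ : M ≅ N) :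
    divisor k hdim hN (InvX.IsFrame.map_iso φ he₀) h₀ = divisor k hdim hM he₀ h₀ := by
  ext P
  obtain ⟨z, rfl⟩ := (pl k X hdim).surjective P
  have hU := eta_mem (mem_chartU hM z)
  refine WithZero.exp_injective ?_
  rw [exp_divisor k hdim hN (InvX.IsFrame.map_iso φ he₀) h₀ (InvX.IsFrame.map_iso φ (isFrame_chartE hM z)) hU (mem_chartU hM z),
    exp_divisor k hdim hM he₀ h₀ (isFrame_chartE hM z) hU (mem_chartU hM z)]
  congr 1
  refine ratio_eq (InvX.IsFrame.map_iso φ he₀) ?_
  have h := congrArg ((DerSch.stalkFunctor X (genericPoint X)).map φ.hom)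
    (ratio_spec he₀ h₀ hU (chartE hM z))
  erw [map_smul] at h
  have hg : ∀ {V : X.Opens} (hV : genericPoint X ∈ V) (a : Γ(M, V)),
      ((DerSch.stalkFunctor X (genericPoint X)).map φ.hom) (gM hV a) = gM hV (φ.hom.app V a) :=
    fun {V} hV a => TopCat.Presheaf.stalkFunctor_map_germ_apply V (genericPoint X) hV
      ((Scheme.Modules.toPresheaf X).map φ.hom) a
  exact ((congrArg (ratio he₀ h₀ hU (chartE hM z) • ·) (hg h₀ e₀).symm).trans
    (h.trans (hg hU (chartE hM z))))

theorem divisor_tensor {N : X.Modules} (hN : PicF.IsInvertible N) {f₀ : Γ(N, U₀)}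
    (hf₀ : InvX.IsFrame f₀) :
    divisor k hdim (InvX.isInvertible_tensorMod hM hN) (InvX.isFrame_tmul he₀ hf₀) h₀ =
      divisor k hdim hM he₀ h₀ + divisor k hdim hN hf₀ h₀ := by
  ext P
  obtain ⟨z, rfl⟩ := (pl k X hdim).surjective P
  refine WithZero.exp_injective ?_
  obtain ⟨U, hz, e, f, he, hf⟩ := InvX.exists_frame₂ hM hN z.1
  have hU := eta_mem hz
  rw [Finsupp.add_apply, WithZero.exp_add, exp_divisor k hdim hM he₀ h₀ he hU hz,
    exp_divisor k hdim hN hf₀ h₀ hf hU hz,
    exp_divisor k hdim (InvX.isInvertible_tensorMod hM hN) (InvX.isFrame_tmul he₀ hf₀) h₀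
      (InvX.isFrame_tmul he hf) hU hz, ← map_mul]
  congr 1
  let W := U₀ ⊓ U
  have hW : genericPoint X ∈ W := ⟨h₀, hU⟩
  obtain ⟨g, hg, hgr⟩ := exists_coord_ratio he₀ (inf_le_left : W ≤ U₀) hW (res M inf_le_right e)
  obtain ⟨g', hg', hgr'⟩ := exists_coord_ratio hf₀ (inf_le_left : W ≤ U₀) hW (res N inf_le_right f)
  have e1 : ratio he₀ h₀ hU e = X.presheaf.germ W _ hW g := by
    rw [← hgr]
    exact ratio_eq he₀ (by rw [ratio_spec, gM_res])
  have e2 : ratio hf₀ h₀ hU f = X.presheaf.germ W _ hW g' := by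
    rw [← hgr']
    exact ratio_eq hf₀ (by rw [ratio_spec, gM_res])
  refine ratio_eq _ ?_
  rw [e1, e2, ← map_mul, ← gM_res (inf_le_left : W ≤ U₀) hW, ← gM_smul,
    ← gM_res (inf_le_right : W ≤ U) hW, InvX.res_tmul, InvX.res_tmul, hg, hg', InvX.tmul_smul_left,
    InvX.tmul_smul_right, ← mul_smul]

end Groth.Agent.CurveFF
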