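import Groth.Agent.CurveFF.Divisor
import Groth.Agent.CurveCohLib.RankTwo
import Groth.Agent.CurveCohLib.Clifford
import Groth.Agent.Lib.CurveCanonical
import Groth.Agent.FFLib.RR

/-! Degrees of divisors of invertible modules; the two genera agree. -/

noncomputable section

set_option linter.style.haveILetI false
set_option linter.unusedSectionVars false
set_option backward.isDefEq.respectTransparency false
set_option backward.isDefEq.respectTransparency.types false

universe u

open CategoryTheory CategoryTheory.Limits AlgebraicGeometry TopologicalSpace Opposite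

namespace Groth.Agent.CurveFF

attribute [local instance] ffAlg

theorem ell_le_succ {k K : Type*} [Field k] [Field K] [Algebra k K] (hK : FunFld.IsFunctionField k K)
    {D : FunFld.Divisor k K} (h : 0 < FunFld.ell D) : (FunFld.ell D : ℤ) ≤ D.deg + 1 := by
  obtain ⟨z, hz0, -, hz⟩ := FFLib.exists_le_add_div hK.1 h
  have h1 := (FFLib.ell_le_of_le hK.1 hz).2
  rw [FFLib.ell_add_div hK.1 D hz0, FFLib.ell_zero hK, FFLib.Divisor.deg_zero, FFLib.Divisor.deg_add,
    FFLib.deg_div hK.1] at h1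
  push_cast at h1
  linarith

variable (k : Type u) [Field k] [IsAlgClosed k] {X : Scheme.{u}} [X.Over (Spec (CommRingCat.of k))]
  [IsIntegral X] [IsProper (X ↘ Spec (CommRingCat.of k))] [Smooth (X ↘ Spec (CommRingCat.of k))]
  (hdim : topologicalKrullDim X = 1)

include hdim in
/-- No first cohomology in degree above `2g - 2`. -/
theorem subsingleton_h1 {L : X.Modules} (hL : PicF.IsInvertible L)
    (hd : 2 * (Curv2.genus k X : ℤ) - 2 < Curv2.deg k X L 1) : Subsingleton (Coh.HH X L 1) := by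
  haveI := CurveCohLib.isNoetherian_of_proper (k := k) (X := X)
  haveI := CurveCohLib.finite_HH (k := k) (CurveDeg.isCoh_of_isInvertible hL) 1
  obtain ⟨ω, μ, hω⟩ := CurveDuality.exists_isDualizing k (X := X) hdim
  obtain ⟨D, hD, hdD, ⟨e⟩⟩ := CurveDuality.exists_inverse_deg k hdim hL
  have hdual := CurveDuality.finrank_h1_eq k hω hdim hL e
  refine Module.finrank_zero_iff.1 (hdual.trans ?_)
  by_contra h0
  have hT : PicF.IsInvertible ((DCoh.tensorBi.obj D).obj ω) := InvX.isInvertible_tensorMod hD hω.inv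
  obtain ⟨s, hs⟩ := CurveRR.exists_hom_ne_zero k (P := (DCoh.tensorBi.obj D).obj ω) h0
  have h1 := (CurveDeg.deg_le_and_isIso k hdim.le CurveDeg.isInvertible_structureModule hT s hs).1
  rw [CurveDeg.deg_structureModule, CurveRR.deg_tensor k hdim hD hω.inv, hdD,
    (CurveDuality.canonical_invariants k (CurveCohLib.Clifford.finrank_h0_structure k (X := X)) hω hdim).2.2] at h1
  omega

include hdim in
theorem finrank_h0_of_large {L : X.Modules} (hL : PicF.IsInvertible L)
    (hd : 2 * (Curv2.genus k X : ℤ) - 2 < Curv2.deg k X L 1) :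
    (Module.finrank k (Coh.HH X L 0) : ℤ) = Curv2.deg k X L 1 + 1 - Curv2.genus k X := by
  haveI := subsingleton_h1 k hdim hL hd
  rw [CurveCohLib.Clifford.deg_eq k hdim hL, Module.finrank_zero_of_subsingleton (R := k) (M := Coh.HH X L 1)]
  push_cast
  ring

include hdim in
/-- Twists by the powers of a module. -/
theorem exists_twist {U₀ : X.Opens} (h₀ : genericPoint X ∈ U₀) {M J : X.Modules}
    (hM : PicF.IsInvertible M) (hJ : PicF.IsInvertible J) {a : Γ(M, U₀)} (ha : InvX.IsFrame a)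
    {b : Γ(J, U₀)} (hb : InvX.IsFrame b) (n : ℕ) :
    ∃ (L : X.Modules) (hL : PicF.IsInvertible L) (c : Γ(L, U₀)) (hc : InvX.IsFrame c),
      Curv2.deg k X L 1 = Curv2.deg k X M 1 + n * Curv2.deg k X J 1 ∧
      (divisor k hdim hL hc h₀).deg = (divisor k hdim hM ha h₀).deg + n * (divisor k hdim hJ hb h₀).deg := by
  induction n with
  | zero => exact ⟨M, hM, a, ha, by simp, by simp⟩
  | succ n ih =>
    obtain ⟨L, hL, c, hc, h1, h2⟩ := ih
    refine ⟨CohB1.tensorMod L J, InvX.isInvertible_tensorMod hL hJ, InvX.tmul c b,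
      InvX.isFrame_tmul hc hb, ?_, ?_⟩
    · rw [show Curv2.deg k X (CohB1.tensorMod L J) 1 = _ from CurveRR.deg_tensor k hdim hL hJ, h1]
      push_cast; ring
    · rw [divisor_tensor k hdim hL hc h₀ hJ hb, FFLib.Divisor.deg_add, h2]
      push_cast; ring

theorem exists_common_frames {M J : X.Modules} (hM : PicF.IsInvertible M) (hJ : PicF.IsInvertible J) :
    ∃ (U₀ : X.Opens) (_ : genericPoint X ∈ U₀) (a : Γ(M, U₀)) (b : Γ(J, U₀)),
      InvX.IsFrame a ∧ InvX.IsFrame b :=
  InvX.exists_frame₂ hM hJ (genericPoint X)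

include hdim in
/-- Key computation with a degree one module. -/
theorem deg_one_data {J : X.Modules} (hJ : PicF.IsInvertible J) (hdJ : Curv2.deg k X J 1 = 1)
    {U₀ : X.Opens} (h₀ : genericPoint X ∈ U₀) {b : Γ(J, U₀)} (hb : InvX.IsFrame b) :
    (divisor k hdim hJ hb h₀).deg = 1 ∧ FunFld.genus k X.functionField = Curv2.genus k X := by
  have hK := isFunctionField k X hdim
  obtain ⟨δ, hδ⟩ : ∃ δ, (divisor k hdim hJ hb h₀).deg = δ := ⟨_, rfl⟩
  -- the powers
  have hpow : ∀ n : ℕ, 2 * (Curv2.genus k X : ℤ) ≤ n →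
      ∃ D : FunFld.Divisor k X.functionField, D.deg = (n + 1) * δ ∧
        (FunFld.ell D : ℤ) = n + 2 - Curv2.genus k X := by
    intro n hn
    obtain ⟨L, hL, c, hc, h1, h2⟩ := exists_twist k hdim h₀ hJ hJ hb hb n
    refine ⟨divisor k hdim hL hc h₀, by rw [h2, hδ]; ring, ?_⟩
    rw [← finrank_h0_eq_ell k hdim hL hc h₀, finrank_h0_of_large k hdim hL (by rw [h1, hdJ]; omega), h1, hdJ]
    ring
  have hpos : 1 ≤ δ := by
    by_contra hneg
    obtain ⟨D, hD, hell⟩ := hpow (2 * Curv2.genus k X) (by omega)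
    have hle := ell_le_succ hK (D := D) (by omega)
    have : ((2 * Curv2.genus k X : ℕ) + 1 : ℤ) * δ ≤ 0 :=
      mul_nonpos_of_nonneg_of_nonpos (by omega) (by omega)
    rw [hD] at hle
    omega
  let G := FunFld.genus k X.functionField
  have hbig : ∀ n : ℕ, 2 * (Curv2.genus k X : ℤ) ≤ n → 2 * (G : ℤ) ≤ n →
      ((n : ℤ) + 1) * δ + 1 - G = n + 2 - Curv2.genus k X := by
    intro n hn hn'
    obtain ⟨D, hD, hell⟩ := hpow n hn
    have h3 := FFLib.ell_of_deg_gt hK (D := D) (by
      rw [hD]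
      nlinarith [mul_nonneg (show (0 : ℤ) ≤ n + 1 by omega) (show (0 : ℤ) ≤ δ - 1 by omega)])
    rw [hell, hD] at h3
    exact h3.symm
  have e1 := hbig (2 * Curv2.genus k X + 2 * G) (by push_cast; omega) (by push_cast; omega)
  have e2 := hbig (2 * Curv2.genus k X + 2 * G + 1) (by push_cast; omega) (by push_cast; omega)
  push_cast at e1 e2
  have hd1 : δ = 1 := by nlinarith
  refine ⟨hδ.trans hd1, ?_⟩
  subst hd1
  show G = _
  omega

include hdim in
/-- The genus of the curve is the genus of its function field. -/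
theorem genus_eq : FunFld.genus k X.functionField = Curv2.genus k X := by
  obtain ⟨J, hJ, hdJ⟩ := CurveCohLib.RankTwo.exists_deg_eq k (X := X) hdim 1
  obtain ⟨U₀, h₀, a, b, ha, hb⟩ := exists_common_frames hJ hJ
  exact (deg_one_data k hdim hJ hdJ h₀ hb).2

variable {M : X.Modules} (hM : PicF.IsInvertible M) {U₀ : X.Opens} {e₀ : Γ(M, U₀)}
  (he₀ : InvX.IsFrame e₀) (h₀ : genericPoint X ∈ U₀)

theorem divisor_res {U₁ : X.Opens} (h : U₁ ≤ U₀) (h₁ : genericPoint X ∈ U₁) :
    divisor k hdim hM (he₀.res h) h₁ = divisor k hdim hM he₀ h₀ := by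
  ext P
  obtain ⟨z, rfl⟩ := (pl k X hdim).surjective P
  refine WithZero.exp_injective ?_
  have hU := CurveCohLib.Polar.eta_mem (mem_chartU hM z)
  rw [exp_divisor k hdim hM (he₀.res h) h₁ (isFrame_chartE hM z) hU (mem_chartU hM z),
    exp_divisor k hdim hM he₀ h₀ (isFrame_chartE hM z) hU (mem_chartU hM z)]
  congr 1
  refine ratio_eq (he₀.res h) ?_
  rw [gM_res h h₁, ratio_spec]

/-- The degree of the divisor is the degree of the module. -/
theorem deg_divisor : (divisor k hdim hM he₀ h₀).deg = Curv2.deg k X M 1 := by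
  have hK := isFunctionField k X hdim
  obtain ⟨J, hJ, hdJ⟩ := CurveCohLib.RankTwo.exists_deg_eq k (X := X) hdim 1
  obtain ⟨U₁, h₁, a, b, ha, hb⟩ := exists_common_frames hM hJ
  have hU : genericPoint X ∈ U₀ ⊓ U₁ := ⟨h₀, h₁⟩
  have hb' := hb.res (inf_le_right : U₀ ⊓ U₁ ≤ U₁)
  have he' := he₀.res (inf_le_left : U₀ ⊓ U₁ ≤ U₀)
  rw [← divisor_res k hdim hM he₀ h₀ inf_le_left hU]
  obtain ⟨hδ, hgen⟩ := deg_one_data k hdim hJ hdJ hU hb'
  obtain ⟨n, hn⟩ : ∃ n : ℕ, |Curv2.deg k X M 1| + |(divisor k hdim hM he' hU).deg| +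
      2 * (Curv2.genus k X : ℤ) ≤ n := ⟨_, Int.self_le_toNat _⟩
  obtain ⟨L, hL, c, hc, h1, h2⟩ := exists_twist k hdim hU hM hJ he' hb' n
  have e1 := finrank_h0_eq_ell k hdim hL hc hU
  have e2 := finrank_h0_of_large k hdim hL (by
    rw [h1, hdJ]; linarith [neg_abs_le (Curv2.deg k X M 1), abs_nonneg (divisor k hdim hM he' hU).deg])
  have e3 := FFLib.ell_of_deg_gt hK (D := divisor k hdim hL hc hU) (by
    rw [hgen, h2, hδ]
    linarith [abs_nonneg (Curv2.deg k X M 1), neg_abs_le (divisor k hdim hM he' hU).deg])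
  rw [← e1, e2, hgen, h1, h2, hdJ, hδ] at e3
  linarith

end Groth.Agent.CurveFF
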