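import Groth.Agent.CurveFF.Omega

/-! The sheaf of differentials is the dualizing module. -/

noncomputable section

set_option linter.style.haveILetI false
set_option linter.unusedSectionVars false
set_option backward.isDefEq.respectTransparency false
set_option backward.isDefEq.respectTransparency.types false

universe u

open CategoryTheory CategoryTheory.Limits AlgebraicGeometry TopologicalSpace Opposite

namespace Groth.Agent.CurveFF

variable (k : Type u) [Field k] [IsAlgClosed k] {X : Scheme.{u}} [X.Over (Spec (CommRingCat.of k))]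
  [IsIntegral X] [IsProper (X ↘ Spec (CommRingCat.of k))] [Smooth (X ↘ Spec (CommRingCat.of k))]
  (hdim : topologicalKrullDim X = 1)

include hdim

theorem finrank_h1_Ωm : Module.finrank k (Coh.HH X (Ωm k X) 1) = 1 := by
  have h := CurveCohLib.Clifford.deg_eq k hdim (isInvertible_Ωm k X hdim)
  rw [(canonical_invariants k X hdim).1, (canonical_invariants k X hdim).2] at h
  omega

/-- The sheaf of differentials is isomorphic to every dualizing module. -/
theorem nonempty_iso_dualizing {ω : X.Modules} {μ : Coh.HH X ω 1 →ₗ[k] k}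
    (hω : CurveDuality.IsDualizing k ω μ) : Nonempty (Ωm k X ≅ ω) := by
  have hΩ := isInvertible_Ωm k X hdim
  obtain ⟨D, hD, hdD, ⟨e⟩⟩ := CurveDuality.exists_inverse_deg k hdim hΩ
  have h := CurveDuality.finrank_h1_eq k hω hdim hΩ e
  rw [finrank_h1_Ωm k hdim] at h
  haveI := Module.nontrivial_of_finrank_eq_succ h.symm
  obtain ⟨t, ht⟩ := exists_ne (0 : Coh.HH X ((DCoh.tensorBi.obj D).obj ω) 0)
  haveI := (CurveDeg.deg_le_and_isIso k hdim.le hΩ hω.inv (CurveDuality.homOfTwist e ω t)
    (CurveDuality.homOfTwist_ne_zero e ht)).2 (by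
      rw [(canonical_invariants k X hdim).2, (CurveDuality.canonical_invariants k
        (CurveCohLib.Clifford.finrank_h0_structure k (X := X)) hω hdim).2.2])
  exact ⟨asIso (CurveDuality.homOfTwist e ω t)⟩

/-- Serre duality: `h¹(L) = h⁰(Ω ⊗ L⁻¹)`. -/
theorem finrank_h1_eq {L D : X.Modules} (hL : PicF.IsInvertible L)
    (e : (DCoh.tensorBi.obj L).obj D ≅ Coh.structureModule X) :
    Module.finrank k (Coh.HH X L 1) =
      Module.finrank k (Coh.HH X (CohB1.tensorMod (Ωm k X) D) 0) := by
  obtain ⟨ω, μ, hω⟩ := CurveDuality.exists_isDualizing k (X := X) hdim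
  obtain ⟨i⟩ := nonempty_iso_dualizing k hdim hω
  rw [CurveDuality.finrank_h1_eq k hω hdim hL e]
  exact (CurveCohLib.hhEquiv (k := k)
    (((DCoh.tensorBi.obj D).mapIso i.symm) ≪≫ CurveTensor.commIso D (Ωm k X)) 0).finrank_eq

/-- Riemann-Roch with the differentials. -/
theorem riemann_roch {L D : X.Modules} (hL : PicF.IsInvertible L)
    (e : (DCoh.tensorBi.obj L).obj D ≅ Coh.structureModule X) :
    (Module.finrank k (Coh.HH X L 0) : ℤ) -
        Module.finrank k (Coh.HH X (CohB1.tensorMod (Ωm k X) D) 0) =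
      Curv2.deg k X L 1 + 1 - Curv2.genus k X := by
  rw [← finrank_h1_eq k hdim hL e, CurveCohLib.Clifford.deg_eq k hdim hL]
  ring

end Groth.Agent.CurveFF
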