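import Groth.Agent.CurveFF.Degree
import Groth.Agent.OmegaUniv.Universal
import Groth.Agent.FFLib.Res.Regular
import Groth.Agent.FFLib.SV.AtPlace
import Groth.Agent.FFLib.Diff.Basic
import Groth.Agent.S5018
import Groth.Agent.S1488

/-! The sheaf of differentials of a smooth proper curve: invertible, and its divisor is canonical. -/

noncomputable section

set_option linter.style.haveILetI false
set_option linter.unusedSectionVars false
set_option backward.isDefEq.respectTransparency false
set_option backward.isDefEq.respectTransparency.types false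

universe u

open CategoryTheory CategoryTheory.Limits AlgebraicGeometry TopologicalSpace Opposite
open Groth.Agent.Synt29.OmegaStalk (St gm stalkD)

namespace Groth.Agent.CurveFF

attribute [local instance] ffAlg

variable (k : Type u) [Field k] (X : Scheme.{u}) [X.Over (Spec (CommRingCat.of k))]

/-- The base of a stalk consists of the constants. -/
theorem exists_const (z : X)
    (a : (Spec (CommRingCat.of k)).presheaf.stalk ((X ↘ Spec (CommRingCat.of k)) z)) :
    ∃ c : k, (X ↘ Spec (CommRingCat.of k)).stalkMap z a = Curv2.stalkMap k X z c := by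
  haveI : Subsingleton (Spec (CommRingCat.of k)) := inferInstanceAs (Subsingleton (PrimeSpectrum k))
  obtain ⟨V, hyV, s, rfl⟩ := (Spec (CommRingCat.of k)).presheaf.exists_germ_eq
    (x := (X ↘ Spec (CommRingCat.of k)) z) a
  obtain rfl : V = ⊤ := eq_top_iff.2 fun p _ =>
    Subsingleton.elim ((X ↘ Spec (CommRingCat.of k)) z) p ▸ hyV
  refine ⟨(Scheme.ΓSpecIso (CommRingCat.of k)).hom s, ?_⟩
  erw [Scheme.Hom.germ_stalkMap_apply]
  show X.presheaf.germ _ _ _ ((X ↘ Spec (CommRingCat.of k)).app ⊤ s) =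
    X.presheaf.germ ⊤ _ _ ((X ↘ Spec (CommRingCat.of k)).appTop ((Scheme.ΓSpecIso (CommRingCat.of k)).inv
      ((Scheme.ΓSpecIso (CommRingCat.of k)).hom s)))
  rw [Iso.hom_inv_id_apply]
  rfl

theorem exists_preimage_const (z : X) (c : k) :
    ∃ a, (X ↘ Spec (CommRingCat.of k)).stalkMap z a = Curv2.stalkMap k X z c :=
  ⟨(Spec (CommRingCat.of k)).presheaf.germ ⊤ _ trivial ((Scheme.ΓSpecIso (CommRingCat.of k)).inv c),
    Scheme.Hom.germ_stalkMap_apply (X ↘ Spec (CommRingCat.of k)) ⊤ z trivial _⟩

variable [IsAlgClosed k] [IsIntegral X] [IsProper (X ↘ Spec (CommRingCat.of k))]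
  [Smooth (X ↘ Spec (CommRingCat.of k))]

/-- The sheaf of differentials. -/
abbrev Ωm : X.Modules := Omega.sheaf (X ↘ Spec (CommRingCat.of k))

/-- Its derivation. -/
abbrev dm : OmegaSh.Der (X ↘ Spec (CommRingCat.of k)) (Ωm k X) :=
  OmegaSh.dOmega (X ↘ Spec (CommRingCat.of k))

/-- The derivation on the stalks. -/
abbrev dSt (z : X) (a : X.presheaf.stalk z) : St (Ωm k X) z := (stalkD (dm k X) z).d a

theorem dSt_const (z : X) (c : k) : dSt k X z (Curv2.stalkMap k X z c) = 0 := by
  obtain ⟨a, ha⟩ := exists_preimage_const k X z c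
  rw [← ha]
  exact (stalkD (dm k X) z).d_map a

theorem dSt_germ {U : X.Opens} {z : X} (hz : z ∈ U) (s : Γ(X, U)) :
    dSt k X z (X.presheaf.germ U z hz s) =
      gm (Ωm k X) hz ((dm k X).app U s) :=
  Synt29.OmegaStalk.stalkD_germ (dm k X) U hz s

theorem isFinLocFree_Ωm : FlatMod.IsFinLocFree (Ωm k X) :=
  S5018.result (X ↘ Spec (CommRingCat.of k)) ((S1488.result _).1 inferInstance).2 _ _
    (OmegaUniv.isUniversal_dOmega _)

theorem span_dSt (z : X) :
    Submodule.span (X.presheaf.stalk z) (Set.range (dSt k X z)) = ⊤ := by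
  rw [eq_top_iff]
  rintro m -
  haveI := Synt29.OmegaStalk.isIso_toStalk (OmegaUniv.isUniversal_dOmega (X ↘ Spec (CommRingCat.of k))) z
  obtain ⟨w, rfl⟩ := (ConcreteCategory.bijective_of_isIso (Synt29.OmegaStalk.toStalk (dm k X) z)).2 m
  letI := ((X ↘ Spec (CommRingCat.of k)).stalkMap z).hom.toAlgebra
  have hw : w ∈ Submodule.span (X.presheaf.stalk z)
      (Set.range (KaehlerDifferential.D ((Spec (CommRingCat.of k)).presheaf.stalk ((X ↘ Spec (CommRingCat.of k)) z))
        (X.presheaf.stalk z))) := by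
    rw [KaehlerDifferential.span_range_derivation]; trivial
  induction hw using Submodule.span_induction with
  | mem y hy =>
    obtain ⟨b, rfl⟩ := hy
    exact Submodule.subset_span ⟨b, (Synt29.OmegaStalk.toStalk_d (dm k X) z b).symm⟩
  | zero => rw [map_zero]; exact zero_mem _
  | add a b _ _ ha hb => rw [map_add]; exact add_mem ha hb
  | smul r a _ ha => rw [map_smul]; exact Submodule.smul_mem _ r ha

/-- The stalk of differentials at the generic point, in the differentials of the function field. -/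
theorem exists_toKaehler :
    ∃ Ψ : St (Ωm k X) (genericPoint X) →ₗ[X.functionField] Ω[X.functionField⁄k],
      Function.Injective Ψ ∧
      ∀ a : X.functionField, Ψ (dSt k X (genericPoint X) a) = KaehlerDifferential.D k X.functionField a := by
  let N : ModuleCat.{u} (X.presheaf.stalk (genericPoint X)) :=
    ModuleCat.of X.functionField (Ω[X.functionField⁄k])
  let δ : N.Derivation ((X ↘ Spec (CommRingCat.of k)).stalkMap (genericPoint X)) :=
    ModuleCat.Derivation.mk (fun b => KaehlerDifferential.D k X.functionField b)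
      (fun a b => map_add _ a b) (fun a b => Derivation.leibniz _ a b) (fun a => by
        obtain ⟨c, hc⟩ := exists_const k X (genericPoint X) a
        rw [hc]
        exact Derivation.map_algebraMap _ c)
  obtain ⟨φ, hφ⟩ := Synt29.OmegaStalk.exists_stalk_desc
    (OmegaUniv.isUniversal_dOmega (X ↘ Spec (CommRingCat.of k))) (genericPoint X) δ
  letI : Module k (St (Ωm k X) (genericPoint X)) :=
    Module.compHom _ (Curv2.stalkMap k X (genericPoint X))
  haveI : IsScalarTower k X.functionField (St (Ωm k X) (genericPoint X)) :=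
    ⟨fun c r m => mul_smul (Curv2.stalkMap k X (genericPoint X) c) r m⟩
  let E : Derivation k X.functionField (St (Ωm k X) (genericPoint X)) :=
    { toFun := fun a => dSt k X (genericPoint X) a
      map_add' := fun a b => (stalkD (dm k X) (genericPoint X)).d_add a b
      map_smul' := fun c a => by
        show dSt k X (genericPoint X) (Curv2.stalkMap k X (genericPoint X) c * a) =
          Curv2.stalkMap k X (genericPoint X) c • dSt k X (genericPoint X) a
        refine ((stalkD (dm k X) (genericPoint X)).d_mul _ _).trans ?_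
        show _ + (a : X.presheaf.stalk (genericPoint X)) •
          dSt k X (genericPoint X) (Curv2.stalkMap k X (genericPoint X) c) = _
        rw [dSt_const, smul_zero, add_zero]
      map_one_eq_zero' := by
        show dSt k X _ 1 = 0
        rw [← map_one (Curv2.stalkMap k X (genericPoint X)), dSt_const]
      leibniz' := fun a b => (stalkD (dm k X) (genericPoint X)).d_mul a b }
  refine ⟨φ.hom, fun m m' h => ?_, hφ⟩
  have key : ∀ m, E.liftKaehlerDifferential (φ.hom m) = m := fun m => by
    have hm := span_dSt k X (genericPoint X) ▸ (Submodule.mem_top : m ∈ ⊤)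
    induction hm using Submodule.span_induction with
    | mem y hy =>
      obtain ⟨b, rfl⟩ := hy
      exact (congrArg _ (hφ b)).trans (E.liftKaehlerDifferential_comp_D b)
    | zero => simp
    | add a b _ _ ha hb => rw [map_add, map_add, ha, hb]
    | smul r a _ ha =>
      exact ((congrArg _ (map_smul φ.hom r a)).trans (E.liftKaehlerDifferential.map_smul r _)).trans
        (congrArg (r • ·) ha)
  rw [← key m, ← key m']
  exact congrArg _ h

variable (hdim : topologicalKrullDim X = 1)
include hdim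

/-- The differential of a uniformiser. -/
theorem D_ne_zero {z : Pt X} {t : X.functionField}
    (ht : (pl k X hdim z).1 t = WithZero.exp (-1 : ℤ)) :
    KaehlerDifferential.D k X.functionField t ≠ 0 := by
  obtain ⟨φ, hφ, -⟩ := FFLib.exists_expansion' (isFunctionField k X hdim) (pl k X hdim z) ht
  exact FFLib.D_ne_of_vDiff (by rw [FFLib.vDiff_unif hφ ht]; exact one_ne_zero)

/-- The stalk at a closed point is free on the differential of a uniformiser. -/
theorem bijective_smul_dSt (z : Pt X) {t : X.presheaf.stalk z.1}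
    (ht : Irreducible t) :
    Function.Bijective fun r : X.presheaf.stalk z.1 => r • dSt k X z.1 t := by
  haveI := isDVR k X hdim z.2
  haveI := CurveCohLib.isNoetherian_of_proper (k := k) (X := X)
  have htK : (pl k X hdim z).1 (algebraMap (X.presheaf.stalk z.1) X.functionField t) =
      WithZero.exp (-1 : ℤ) := by
    refine ((IsDiscreteValuationRing.maximalIdeal (X.presheaf.stalk z.1)).valuation_of_algebraMap t).trans ?_
    exact IsDedekindDomain.HeightOneSpectrum.intValuation_singleton _ ht.ne_zero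
      ((IsDiscreteValuationRing.irreducible_iff_uniformizer t).1 ht)
  constructor
  · obtain ⟨U₁, hz₁, s, hs⟩ := X.presheaf.exists_germ_eq (x := z.1) t
    intro r r' h
    rw [← sub_eq_zero]
    replace h : (r - r') • dSt k X z.1 t = 0 := by rw [sub_smul, sub_eq_zero]; exact h
    generalize r - r' = w at h
    obtain ⟨U₂, hz₂, a, rfl⟩ := X.presheaf.exists_germ_eq (x := z.1) w
    have hzU : z.1 ∈ U₁ ⊓ U₂ := ⟨hz₁, hz₂⟩
    rw [← hs, dSt_germ, ← Synt29.OmegaStalk.gm_res (Ωm k X) (homOfLE (inf_le_left : U₁ ⊓ U₂ ≤ U₁)) hzU,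
      ← X.presheaf.germ_res_apply (homOfLE (inf_le_right : U₁ ⊓ U₂ ≤ U₂)) z.1 hzU a] at h
    erw [← Synt29.OmegaStalk.gm_smul] at h
    obtain ⟨W, hzW, i, j, hij⟩ := TopCat.Presheaf.germ_eq (C := AddCommGrpCat.{u}) (Ωm k X).presheaf z.1
      hzU hzU _ 0 (h.trans (map_zero _).symm)
    rw [map_zero] at hij
    have hη := CurveCohLib.Polar.eta_mem hzW
    have h2 := congrArg (gm (Ωm k X) hη) hij
    rw [Synt29.OmegaStalk.gm_res, map_zero, Synt29.OmegaStalk.gm_smul, Synt29.OmegaStalk.gm_res,
      ← dSt_germ] at h2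
    obtain ⟨Ψ, -, hΨ⟩ := exists_toKaehler k X
    have h3 := congrArg Ψ h2
    rw [map_zero] at h3
    erw [map_smul, hΨ] at h3
    have hne : KaehlerDifferential.D k X.functionField
        (X.presheaf.germ U₁ (genericPoint X) (i.le hη).1 s) ≠ 0 := by
      refine D_ne_zero k X hdim (z := z) ?_
      rw [← htK]
      haveI : Nonempty U₁ := ⟨⟨z.1, hz₁⟩⟩
      rw [← hs]
      exact congrArg (pl k X hdim z).1 (X.algebraMap_germ_eq_germToFunctionField hz₁ s).symm
    rcases smul_eq_zero.1 h3 with h4 | h4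
    · rw [← map_zero (X.presheaf.germ U₂ z.1 hz₂).hom]
      refine congrArg _ (germ_injective_of_isIntegral (X := X) (genericPoint X) (i.le hη).2 ?_)
      rw [map_zero]
      refine Eq.trans ?_ h4
      exact (X.presheaf.germ_res_apply (homOfLE (inf_le_right : U₁ ⊓ U₂ ≤ U₂)) _ (i.le hη) a).symm
    · exact absurd h4 hne
  · have hfin := CurveBundle.finite_stalk_of_coh
      (CurveStable.coh_of_free k (isFinLocFree_Ωm k X)) z.1
    let N : Submodule (X.presheaf.stalk z.1) (St (Ωm k X) z.1) :=
      Submodule.span _ {dSt k X z.1 t}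
    have hle : (⊤ : Submodule (X.presheaf.stalk z.1) (St (Ωm k X) z.1)) ≤
        N ⊔ IsLocalRing.maximalIdeal (X.presheaf.stalk z.1) • (⊤ : Submodule _ _) := by
      rw [← span_dSt k X z.1, Submodule.span_le]
      rintro _ ⟨a, rfl⟩
      obtain ⟨c, hc⟩ := CurveSection.exists_stalkMap_sub_mem k z.2 a
      rw [(IsDiscreteValuationRing.irreducible_iff_uniformizer t).1 ht, Ideal.mem_span_singleton] at hc
      obtain ⟨r, hr⟩ := hc
      have e : dSt k X z.1 a = r • dSt k X z.1 t + t • dSt k X z.1 r := by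
        rw [show a = Curv2.stalkMap k X z.1 c + t * r by rw [← hr]; ring]
        refine ((stalkD (dm k X) z.1).d_add _ _).trans ?_
        show dSt k X z.1 _ + _ = _
        rw [dSt_const, zero_add]
        exact ((stalkD (dm k X) z.1).d_mul t r).trans (add_comm _ _)
      rw [e, SetLike.mem_coe, span_dSt k X z.1]
      exact Submodule.add_mem_sup (Submodule.smul_mem _ r (Submodule.mem_span_singleton_self _))
        (Submodule.smul_mem_smul ((IsLocalRing.mem_maximalIdeal t).2 ht.not_isUnit) trivial)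
    have htop : (⊤ : Submodule (X.presheaf.stalk z.1) (St (Ωm k X) z.1)) ≤ N :=
      Submodule.le_of_le_smul_of_le_jacobson_bot hfin.fg_top (IsLocalRing.maximalIdeal_le_jacobson ⊥) hle
    exact fun m => Submodule.mem_span_singleton.1 (htop (Submodule.mem_top (x := m)))

theorem isInvertible_Ωm : PicF.IsInvertible (Ωm k X) := by
  haveI := CurveCohLib.isNoetherian_of_proper (k := k) (X := X)
  obtain ⟨S, hS, hcl⟩ := CurveSection.exists_closed_finset k (X := X) hdim 1
  obtain ⟨p, hp⟩ := Finset.card_pos.1 (show 0 < S.card by omega)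
  haveI := isDVR k X hdim (hcl p hp)
  obtain ⟨t, ht⟩ := IsDiscreteValuationRing.exists_irreducible (X.presheaf.stalk p)
  have hrk := CurveBundle.isFinLocFreeOfRank_rk (isFinLocFree_Ωm k X)
  obtain ⟨b⟩ := CurveTensor.exists_basis_stalk hrk p
  let e : X.presheaf.stalk p ≃ₗ[X.presheaf.stalk p] (Ωm k X).presheaf.stalk p :=
    LinearEquiv.ofBijective (LinearMap.toSpanSingleton _ _ (dSt k X p t))
      (bijective_smul_dSt k X hdim ⟨p, hcl p hp⟩ ht)
  have h1 : CurveBundle.rk (Ωm k X) = 1 := by
    have h := Module.finrank_eq_card_basis b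
    have h' : Module.finrank (X.presheaf.stalk p) ((Ωm k X).presheaf.stalk p) = 1 :=
      e.finrank_eq.symm.trans (Module.finrank_self _)
    rw [h', Fintype.card_fin] at h
    exact h.symm
  exact CurveDuality.isInvertible_of_rank_one (h1 ▸ hrk)

variable {U₀ : X.Opens} {e₀ : Γ(Ωm k X, U₀)} (he₀ : InvX.IsFrame e₀) (h₀ : genericPoint X ∈ U₀)

/-- The divisor of the differentials is canonical. -/
theorem isCanonical_divisor :
    FunFld.IsCanonical k X.functionField (divisor k hdim (isInvertible_Ωm k X hdim) he₀ h₀) := by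
  classical
  have hK := isFunctionField k X hdim
  have hg := isGeometric k X
  obtain ⟨Ψ, hΨinj, hΨ⟩ := exists_toKaehler k X
  have hu : ∀ P : FunFld.Place k X.functionField, ∃ t, t ≠ 0 ∧ P.1 t = WithZero.exp (-1) :=
    fun P => FFLib.exists_unif P
  choose t ht using hu
  choose φ hφ hφt using fun P : FunFld.Place k X.functionField =>
    FFLib.exists_expansion' hK P (ht P).2
  -- a separating element
  obtain ⟨S, hS, hcl⟩ := CurveSection.exists_closed_finset k (X := X) hdim 1
  obtain ⟨p, hp⟩ := Finset.card_pos.1 (show 0 < S.card by omega)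
  let P₀ := pl k X hdim ⟨p, hcl p hp⟩
  have hx : KaehlerDifferential.D k X.functionField (t P₀) ≠ 0 := D_ne_zero k X hdim (ht P₀).2
  obtain ⟨C, hC, hCP, -⟩ := FFLib.exists_canonical_of_D_ne hK hg
    (F := fun _ : FunFld.Place k X.functionField => k) φ hφ hx
  -- the coefficient of the rational frame
  let m : St (Ωm k X) (genericPoint X) := gM h₀ e₀
  have hcoef : ∀ a : X.functionField, ∃ c : X.functionField,
      KaehlerDifferential.D k X.functionField a = c • Ψ m := by
    intro a
    obtain ⟨c, hc⟩ := (he₀.germ_bijective h₀).2 (dSt k X (genericPoint X) a)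
    exact ⟨c, by rw [← hΨ a, ← hc]; exact map_smul Ψ c m⟩
  obtain ⟨y, hy⟩ := hcoef (t P₀)
  have hy0 : y ≠ 0 := fun h => hx (by rw [hy, h, zero_smul])
  refine (FFLib.canonical_iff hK hC _).2 ⟨y⁻¹, inv_ne_zero hy0, ?_⟩
  ext P
  obtain ⟨z, rfl⟩ := (pl k X hdim).surjective P
  haveI := isDVR k X hdim z.2
  obtain ⟨τ, hτ⟩ := IsDiscreteValuationRing.exists_irreducible (X.presheaf.stalk z.1)
  let τK := algebraMap (X.presheaf.stalk z.1) X.functionField τ
  have hτK : (pl k X hdim z).1 τK = WithZero.exp (-1 : ℤ) := by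
    refine ((IsDiscreteValuationRing.maximalIdeal (X.presheaf.stalk z.1)).valuation_of_algebraMap τ).trans ?_
    exact IsDedekindDomain.HeightOneSpectrum.intValuation_singleton _ hτ.ne_zero
      ((IsDiscreteValuationRing.irreducible_iff_uniformizer τ).1 hτ)
  obtain ⟨U₁, hz₁, s, hs⟩ := X.presheaf.exists_germ_eq (x := z.1) τ
  obtain ⟨U, hzU, e, he⟩ := InvX.exists_frame (isInvertible_Ωm k X hdim) z.1
  have hU := CurveCohLib.Polar.eta_mem hzU
  have hη₁ := CurveCohLib.Polar.eta_mem hz₁
  haveI : Nonempty U₁ := ⟨⟨z.1, hz₁⟩⟩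
  have hsK : X.presheaf.germ U₁ (genericPoint X) hη₁ s = τK := by
    show _ = algebraMap _ _ τ
    rw [← hs]
    exact (X.algebraMap_germ_eq_germToFunctionField hz₁ s).symm
  let ds : Γ(Ωm k X, U₁) := (dm k X).app U₁ s
  -- the differential of the uniformiser generates
  have hw1 : (pl k X hdim z).1 (ratio he hU hη₁ ds) = 1 := by
    obtain ⟨w, hw⟩ := (he.germ_bijective hzU).2 (gm (Ωm k X) hz₁ ds)
    obtain ⟨r, hr⟩ := (bijective_smul_dSt k X hdim z hτ).2 (gm (Ωm k X) hzU e)
    rw [← hs, dSt_germ] at hr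
    have hwr : w * r = 1 := by
      refine (bijective_smul_dSt k X hdim z hτ).1 ?_
      rw [← hs]
      dsimp only
      rw [dSt_germ, one_smul, mul_smul]
      exact (congrArg (w • ·) hr).trans hw
    have hwunit : IsUnit w := IsUnit.of_mul_eq_one _ hwr
    have hratio : ratio he hU hη₁ ds = algebraMap (X.presheaf.stalk z.1) X.functionField w := by
      obtain ⟨U₂, hz₂, w', rfl⟩ := X.presheaf.exists_germ_eq (x := z.1) w
      obtain ⟨g, hg, hgr⟩ := exists_coord_ratio he (inf_le_left : U ⊓ U₁ ≤ U)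
        (show genericPoint X ∈ U ⊓ U₁ from ⟨hU, hη₁⟩) (AModX.res (Ωm k X) inf_le_right ds)
      have hzW : z.1 ∈ U ⊓ U₁ := ⟨hzU, hz₁⟩
      haveI : Nonempty (U ⊓ U₁ : X.Opens) := ⟨⟨z.1, hzW⟩⟩
      have hgz : X.presheaf.germ (U ⊓ U₁) z.1 hzW g = X.presheaf.germ U₂ z.1 hz₂ w' := by
        refine (he.germ_bijective hzU).1 (Eq.trans ?_ hw.symm)
        show _ • (Ωm k X).presheaf.germ U z.1 hzU e = (Ωm k X).presheaf.germ U₁ z.1 hz₁ ds
        rw [← InvX.germ_res' (inf_le_left : U ⊓ U₁ ≤ U) hzW e, ← QCoh.germ_smul', ← hg, InvX.germ_res']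
      rw [show ratio he hU hη₁ ds = X.presheaf.germ (U ⊓ U₁) _ ⟨hU, hη₁⟩ g from
        (ratio_eq he (by rw [ratio_spec, gM_res])).trans hgr, ← hgz]
      exact (X.algebraMap_germ_eq_germToFunctionField hzW g).symm
    rw [hratio]
    refine le_antisymm ((inR_iff k X hdim z _).1 ⟨w, rfl⟩) (not_lt.1 fun hlt => ?_)
    exact (IsLocalRing.mem_maximalIdeal w).1 ((valAt_lt_one_iff k X hdim z w).1 hlt) hwunit
  -- comparison with the differential of the separating element
  have hd : KaehlerDifferential.D k X.functionField τK = ratio he₀ h₀ hη₁ ds • Ψ m := by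
    rw [← hΨ, ← hsK]
    erw [dSt_germ, ← map_smul]
    exact congrArg Ψ (ratio_spec he₀ h₀ hη₁ ds).symm
  have hd2 : KaehlerDifferential.D k X.functionField τK =
      (ratio he₀ h₀ hη₁ ds * y⁻¹) • KaehlerDifferential.D k X.functionField (t P₀) := by
    rw [hd, hy, smul_smul, mul_assoc, inv_mul_cancel₀ hy0, mul_one]
  have hv := FFLib.vDiff_unif (hφ (pl k X hdim z)) hτK
  have hv2 : LocRes.vDiff (φ (pl k X hdim z)) 1 τK =
      LocRes.vDiff (φ (pl k X hdim z)) (ratio he₀ h₀ hη₁ ds * y⁻¹) (t P₀) := by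
    let φz := φ (pl k X hdim z)
    let _i := φz.toRingHom.toAlgebra
    have _t : IsScalarTower k X.functionField (LaurentSeries k) := LocRes.isScalarTower_exp φz
    have e1 := (LocRes.dExp φz).liftKaehlerDifferential_comp_D τK
    have e2 := (LocRes.dExp φz).liftKaehlerDifferential_comp_D (t P₀)
    rw [hd2, map_smul, e2] at e1
    show Valued.v (φz 1 * LocRes.D k (φz τK)) = Valued.v (φz _ * LocRes.D k (φz (t P₀)))
    rw [map_one, one_mul]
    exact congrArg Valued.v e1.symm
  rw [hv2, FFLib.vDiff_eq hK hg (F := fun _ : FunFld.Place k X.functionField => k) φ hφ hx,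
    ← hCP, ratio_trans he₀ h₀ he hU hη₁ ds, map_mul, map_mul, hw1, one_mul,
    ← exp_divisor k hdim (isInvertible_Ωm k X hdim) he₀ h₀ he hU hzU,
    FFLib.val_eq_exp _ (inv_ne_zero hy0), ← WithZero.exp_add, ← WithZero.exp_add, ← WithZero.exp_zero,
    WithZero.exp_inj] at hv
  rw [Finsupp.add_apply, FFLib.div_apply hK.1]
  omega

/-- `h⁰(Ω) = g` and `deg Ω = 2g - 2`. -/
theorem canonical_invariants :
    Module.finrank k (Coh.HH X (Ωm k X) 0) = Curv2.genus k X ∧
      Curv2.deg k X (Ωm k X) 1 = 2 * (Curv2.genus k X : ℤ) - 2 := by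
  obtain ⟨U₀, h₀, e₀, he₀⟩ := InvX.exists_frame (isInvertible_Ωm k X hdim) (genericPoint X)
  have hC := isCanonical_divisor k X hdim he₀ h₀
  have hK := isFunctionField k X hdim
  refine ⟨?_, ?_⟩
  · rw [finrank_h0_eq_ell k hdim (isInvertible_Ωm k X hdim) he₀ h₀, FFLib.ell_canonical hK hC,
      genus_eq k hdim]
  · rw [← deg_divisor k hdim (isInvertible_Ωm k X hdim) he₀ h₀, FFLib.deg_canonical hK hC, genus_eq k hdim]

end Groth.Agent.CurveFF
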